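import Mathlib.Algebra.Homology.DerivedCategory.ExactFunctor
import Mathlib.Algebra.Homology.DerivedCategory.HomologySequence
import Mathlib.CategoryTheory.Abelian.SerreClass.Localization
import Mathlib.CategoryTheory.Localization.Adjunction
import Mathlib.CategoryTheory.Adjunction.Additive
import Mathlib.CategoryTheory.Adjunction.FullyFaithful

/-!
# Derived categories of Serre quotients with a section
-/

set_option autoImplicit false
set_option linter.style.haveILetI false

universe w w' v v' u u'

open CategoryTheory CategoryTheory.Limits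

namespace Groth.Agent.SerreDer

variable {A : Type u} [Category.{v} A] [Abelian A] {Q : Type u'} [Category.{v'} Q] [Abelian Q]
  (G : A ⥤ Q) [G.Additive] (F : Q ⥤ A) [F.Additive] (adj : F ⊣ G)

/-- Adjoint functors stay adjoint on complexes. -/
noncomputable def mapCxAdj :
    F.mapHomologicalComplex (ComplexShape.up ℤ) ⊣ G.mapHomologicalComplex (ComplexShape.up ℤ) where
  unit :=
    { app K :=
        { f := fun i => adj.unit.app (K.X i)
          comm' := fun i j _ => (adj.unit.naturality (K.d i j)).symm }
      naturality := fun K L φ => HomologicalComplex.hom_ext _ _ fun i => adj.unit.naturality (φ.f i) }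
  counit :=
    { app K :=
        { f := fun i => adj.counit.app (K.X i)
          comm' := fun i j _ => (adj.counit.naturality (K.d i j)).symm }
      naturality := fun K L φ => HomologicalComplex.hom_ext _ _ fun i => adj.counit.naturality (φ.f i) }
  left_triangle_components K := HomologicalComplex.hom_ext _ _ fun i => adj.left_triangle_components (K.X i)
  right_triangle_components K := HomologicalComplex.hom_ext _ _ fun i => adj.right_triangle_components (K.X i)

include adj in
lemma isIso_mapCxAdj_unit [IsIso adj.unit] : IsIso (mapCxAdj G F adj).unit := by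
  haveI : ∀ K, IsIso ((mapCxAdj G F adj).unit.app K) := fun K => by
    haveI : ∀ i, IsIso (((mapCxAdj G F adj).unit.app K).f i) := fun i => inferInstanceAs (IsIso (adj.unit.app _))
    exact HomologicalComplex.Hom.isIso_of_components _
  exact NatIso.isIso_of_isIso_app _

variable [HasDerivedCategory.{w} A] [HasDerivedCategory.{w'} Q] [PreservesFiniteLimits G] [PreservesFiniteColimits G]

include adj in
/-- The derived functor of an exact functor with a fully faithful left adjoint is a localization. -/
theorem isLocalization_mapDerivedCategory [IsIso adj.unit] :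
    G.mapDerivedCategory.IsLocalization
      ((MorphismProperty.isomorphisms (DerivedCategory Q)).inverseImage G.mapDerivedCategory) := by
  let Gc := G.mapHomologicalComplex (ComplexShape.up ℤ)
  let Fc := F.mapHomologicalComplex (ComplexShape.up ℤ)
  let cadj : Fc ⊣ Gc := mapCxAdj G F adj
  haveI : IsIso cadj.unit := isIso_mapCxAdj_unit G F adj
  haveI := cadj.fullyFaithfulLOfIsIsoUnit.full
  haveI := cadj.fullyFaithfulLOfIsIsoUnit.faithful
  haveI := cadj.isLocalization'
  let W₂ := HomologicalComplex.quasiIso Q (ComplexShape.up ℤ)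
  let W₁ := HomologicalComplex.quasiIso A (ComplexShape.up ℤ)
  let W₃ := W₂.inverseImage Gc
  haveI h3 : (Gc ⋙ DerivedCategory.Q).IsLocalization W₃ := by
    refine Functor.IsLocalization.comp Gc DerivedCategory.Q
      ((MorphismProperty.isomorphisms _).inverseImage Gc) W₂ W₃ ?_ ?_ ?_
    · intro K L f hf
      exact Localization.inverts DerivedCategory.Q W₂ _ hf
    · intro K L f hf
      haveI : IsIso (Gc.map f) := hf
      change QuasiIso (Gc.map f)
      infer_instance
    · intro K L f hf
      have e : Arrow.mk (Gc.map (Fc.map f)) ≅ Arrow.mk f :=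
        Arrow.isoMk (asIso (cadj.unit.app K)).symm (asIso (cadj.unit.app L)).symm (by
          simp only [Iso.symm_hom, asIso_inv, Arrow.mk_hom]
          rw [IsIso.eq_comp_inv, Category.assoc, IsIso.inv_comp_eq]
          exact cadj.unit.naturality f)
      exact ((W₃.map Gc).arrow_mk_iso_iff e).1
        (W₃.map_mem_map Gc (Fc.map f) ((W₂.arrow_mk_iso_iff e).2 hf))
  let e : DerivedCategory.Q ⋙ G.mapDerivedCategory ≅ Gc ⋙ DerivedCategory.Q := G.mapDerivedCategoryFactors
  haveI : (DerivedCategory.Q ⋙ G.mapDerivedCategory).IsLocalization W₃ :=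
    Functor.IsLocalization.of_iso W₃ e.symm
  refine Functor.IsLocalization.of_comp DerivedCategory.Q G.mapDerivedCategory W₁
    ((MorphismProperty.isomorphisms (DerivedCategory Q)).inverseImage G.mapDerivedCategory) W₃ ?_ ?_
  · intro K L f hf
    haveI : QuasiIso f := hf
    change QuasiIso (Gc.map f)
    infer_instance
  · have hiff : ∀ {K L : CochainComplex A ℤ} (f : K ⟶ L),
        W₃ f ↔ IsIso (G.mapDerivedCategory.map (DerivedCategory.Q.map f)) := fun {K L} f => by
      refine Iff.trans ?_ (NatIso.isIso_map_iff e f).symm
      exact (DerivedCategory.isIso_Q_map_iff_quasiIso (φ := Gc.map f)).symm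
    refine le_antisymm (fun X Y f (hf : IsIso (G.mapDerivedCategory.map f)) => ?_) ?_
    · let φ := DerivedCategory.Qh.mapArrow.objPreimage (Arrow.mk f)
      have i := DerivedCategory.Qh.mapArrow.objObjPreimageIso (Arrow.mk f)
      obtain ⟨ψ, ⟨j⟩⟩ : ∃ ψ : Arrow (CochainComplex A ℤ),
          Nonempty ((HomotopyCategory.quotient A (ComplexShape.up ℤ)).mapArrow.obj ψ ≅ φ) :=
        ⟨_, ⟨(HomotopyCategory.quotient A (ComplexShape.up ℤ)).mapArrow.objObjPreimageIso φ⟩⟩
      have k : Arrow.mk (DerivedCategory.Q.map ψ.hom) ≅ Arrow.mk f :=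
        ((Functor.mapArrowFunctor _ _).mapIso (DerivedCategory.quotientCompQhIso A)).symm.app ψ ≪≫
          DerivedCategory.Qh.mapArrow.mapIso j ≪≫ i
      refine ((W₃.map DerivedCategory.Q).arrow_mk_iso_iff k).1 (W₃.map_mem_map _ _ ((hiff _).2 ?_))
      exact ((MorphismProperty.isomorphisms _).arrow_mk_iso_iff (G.mapDerivedCategory.mapArrow.mapIso k)).2 hf
    · rw [MorphismProperty.map_le_iff]
      intro K L f hf
      exact (hiff f).1 hf

/-- Isomorphisms after an exact localization at a Serre class. -/
theorem isIso_mapDerivedCategory_iff (P : ObjectProperty A) [P.IsSerreClass] [G.IsLocalization P.isoModSerre] :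
    ObjectProperty.trW (fun X : DerivedCategory A => ∀ n : ℤ, P ((DerivedCategory.homologyFunctor A n).obj X)) =
      (MorphismProperty.isomorphisms (DerivedCategory Q)).inverseImage G.mapDerivedCategory := by
  have hP : ∀ X : DerivedCategory A,
      (∀ n : ℤ, P ((DerivedCategory.homologyFunctor A n).obj X)) ↔ IsZero (G.mapDerivedCategory.obj X) := by
    intro X
    let K := DerivedCategory.Q.objPreimage X
    let eX : DerivedCategory.Q.obj K ≅ X := DerivedCategory.Q.objObjPreimageIso X
    have h1 : IsZero (G.mapDerivedCategory.obj X) ↔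
        ∀ n, IsZero (((G.mapHomologicalComplex (ComplexShape.up ℤ)).obj K).homology n) := by
      rw [((G.mapDerivedCategory.mapIso eX).symm ≪≫ G.mapDerivedCategoryFactors.app K).isZero_iff]
      constructor
      · intro h n
        exact ((DerivedCategory.homologyFunctor Q n).map_isZero h).of_iso
          ((DerivedCategory.homologyFunctorFactors Q n).app _).symm
      · intro h
        rw [IsZero.iff_id_eq_zero]
        haveI : IsIso (DerivedCategory.Q.map
            (0 : (G.mapHomologicalComplex (ComplexShape.up ℤ)).obj K ⟶ (G.mapHomologicalComplex _).obj K)) := by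
          rw [DerivedCategory.isIso_Q_map_iff_quasiIso]
          exact ⟨fun n => (quasiIsoAt_iff_isIso_homologyMap _ n).2 (isIso_of_source_target_iso_zero _ (h n).isoZero (h n).isoZero)⟩
        exact (IsIso.inv_hom_id (DerivedCategory.Q.map
            (0 : (G.mapHomologicalComplex (ComplexShape.up ℤ)).obj K ⟶ (G.mapHomologicalComplex _).obj K))).symm.trans
          (by simp)
    rw [h1]
    refine forall_congr' fun n => ?_
    rw [(show ((G.mapHomologicalComplex (ComplexShape.up ℤ)).obj K).homology n ≅ G.obj (K.homology n) from
      (K.sc n).mapHomologyIso G).isZero_iff, ObjectProperty.SerreClassLocalization.isZero_obj_iff G P]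
    exact P.prop_iff_of_iso
      (((DerivedCategory.homologyFunctor A n).mapIso eX).symm ≪≫
        (DerivedCategory.homologyFunctorFactors A n).app K)
  ext X Y f
  change _ ↔ IsIso (G.mapDerivedCategory.map f)
  obtain ⟨Z, g, h, hT⟩ := Pretriangulated.distinguished_cocone_triangle f
  refine Iff.trans ?_ (Pretriangulated.Triangle.isZero₃_iff_isIso₁ _ (G.mapDerivedCategory.map_distinguished _ hT))
  change _ ↔ IsZero (G.mapDerivedCategory.obj Z)
  constructor
  · rintro ⟨Z', g', h', hT', hZ'⟩
    obtain ⟨e, -⟩ := Pretriangulated.exists_iso_of_arrow_iso _ _ hT' hT (Iso.refl _)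
    exact ((hP Z').1 hZ').of_iso (G.mapDerivedCategory.mapIso (Pretriangulated.Triangle.π₃.mapIso e)).symm
  · exact fun hz => ⟨Z, g, h, hT, (hP Z).2 hz⟩

end Groth.Agent.SerreDer
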